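import Mathlib

/-!
# The spectrum interface for symplectic and orthogonal groups

`LS ω ε n q p`: `ω` is the set of element orders of `PSp_{2n}(q)` or `PΩ_{2n+1}(q)` (`ε = 0`),
`PΩ⁺_{2n}(q)` (`ε = 1`) or `PΩ⁻_{2n}(q)` (`ε = -1`), `p` the characteristic.
For a prime `r ≠ p` put `e = orderOf (q : ZMod r)`; the smallest torus of order divisible by `r`
has rank `eta e`, sign `sg e` and order `tor q (eta e) (sg e)`.
-/

set_option autoImplicit false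

namespace Cfsg.Lib.SPO

def eta (k : ℕ) : ℕ := if k % 2 = 0 then k / 2 else k

def sg (k : ℕ) : ℤ := if k % 2 = 0 then -1 else 1

/-- `q ^ j - δ` for `δ = ± 1`. -/
def tor (q j : ℕ) (δ : ℤ) : ℕ := if δ = 1 then q ^ j - 1 else q ^ j + 1

/-- A torus of rank `m` and sign `δ` fits into the group of type `ε` and rank `n`. -/
def Fit (ε : ℤ) (n m : ℕ) (δ : ℤ) : Prop := m ≤ n ∧ (m = n → ε = 0 ∨ ε = δ)

instance decFit (ε : ℤ) (n m : ℕ) (δ : ℤ) : Decidable (Fit ε n m δ) := by unfold Fit; infer_instance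

/-- The order of `q` modulo `r`. -/
noncomputable abbrev eo (q r : ℕ) : ℕ := orderOf (q : ZMod r)

structure LS (ω : Set ℕ) (ε : ℤ) (n q p : ℕ) : Prop where
  hp : p.Prime
  hq : ∃ f, 0 < f ∧ q = p ^ f
  rng : (ε = 0 ∧ 2 ≤ n ∧ (n = 2 → 4 ≤ q)) ∨ ((ε = 1 ∨ ε = -1) ∧ 4 ≤ n)
  pos : ∀ k ∈ ω, 0 < k
  dvd : ∀ a b, a ∣ b → b ∈ ω → a ∈ ω
  /-- odd divisors of a fitting cyclic torus -/
  tor1 : ∀ j δ k, 0 < j → (δ = 1 ∨ δ = -1) → Fit ε n j δ → Odd k → k ∣ tor q j δ → k ∈ ω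
  /-- odd divisors of the exponent of a fitting product of two cyclic tori -/
  tor2 : ∀ j δ j' δ' k, 0 < j → 0 < j' → (δ = 1 ∨ δ = -1) → (δ' = 1 ∨ δ' = -1) →
    Fit ε n (j + j') (δ * δ') → Odd k → k ∣ (tor q j δ).lcm (tor q j' δ') → k ∈ ω
  /-- torus times a unipotent element of order `p` -/
  torp : ∀ j δ k, 0 < j → (δ = 1 ∨ δ = -1) → j + (if ε = 0 then 1 else 2) ≤ n → Odd k →
    k ∣ tor q j δ → k * p ∈ ω
  /-- torus times an involution -/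
  tor2x : ∀ j δ k, 0 < j → (δ = 1 ∨ δ = -1) → j + (if ε = 0 then 1 else 2) ≤ n → Odd k →
    k ∣ tor q j δ → k * 2 ∈ ω
  /-- prime divisors -/
  pi : ∀ r ∈ ω, r.Prime → r ≠ p → r ≠ 2 → Fit ε n (eta (eo q r)) (sg (eo q r))
  /-- prime powers, `r ≠ p` (also `r = 2`) -/
  rpow : ∀ r a, r.Prime → r ≠ p → r ^ a ∈ ω → 2 < r ^ a →
    ∃ j δ, 0 < j ∧ j ≤ n ∧ (δ = 1 ∨ δ = -1) ∧ r ^ a ∣ tor q j δ
  /-- powers of the characteristic -/
  ppow : ∀ a, p ^ (a + 1) ∈ ω → p ^ a < if ε = 0 then 2 * n else 2 * n - 2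
  bound : ∀ k ∈ ω, (q - 1) * k ≤ q ^ (n + 1)
  /-- `r` of full rank -/
  big0 : ∀ k ∈ ω, ∀ r, r.Prime → r ≠ p → r ≠ 2 → r ∣ k → eta (eo q r) = n →
    k ∣ tor q n (sg (eo q r))
  /-- `r` of corank one in type `D` -/
  big1 : ε ≠ 0 → ∀ k ∈ ω, ∀ r, r.Prime → r ≠ p → r ≠ 2 → r ∣ k → eta (eo q r) + 1 = n →
    k ∣ (tor q (n - 1) (sg (eo q r))).lcm (tor q 1 (ε * sg (eo q r)))
  /-- two odd primes different from `p`, `r` of large rank -/
  nrs : ∀ r s, r.Prime → r ≠ p → r ≠ 2 → s.Prime → s ≠ p → s ≠ 2 → r ≠ s → r * s ∈ ω →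
    n < 2 * eta (eo q r) → s ∣ tor q (eta (eo q r)) (sg (eo q r)) ∨
      Fit ε n (eta (eo q r) + eta (eo q s)) (sg (eo q r) * sg (eo q s))
  /-- `r` and `2` in odd characteristic, full rank -/
  n2a : p ≠ 2 → ∀ r, r.Prime → r ≠ p → r ≠ 2 → eta (eo q r) = n →
    tor q n (sg (eo q r)) % 4 = 2 → 2 * r ∉ ω
  /-- `r` and `2` in odd characteristic, corank one in type `D` -/
  n2b : p ≠ 2 → ε ≠ 0 → ∀ r, r.Prime → r ≠ p → r ≠ 2 → eta (eo q r) + 1 = n →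
    tor q (n - 1) (sg (eo q r)) % 4 = 2 → tor q 1 (ε * sg (eo q r)) % 4 = 2 → 2 * r ∉ ω

theorem sg_cases (k : ℕ) : sg k = 1 ∨ sg k = -1 := by unfold sg; split_ifs <;> simp

theorem eta_spec (k : ℕ) : (Odd k ∧ eta k = k ∧ sg k = 1) ∨ (Even k ∧ 2 * eta k = k ∧ sg k = -1) := by
  unfold eta sg
  rcases Nat.even_or_odd k with h | h
  · have := Nat.even_iff.1 h
    right; refine ⟨h, ?_, ?_⟩ <;> rw [if_pos this]; omega
  · have := Nat.odd_iff.1 h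
    left; refine ⟨h, ?_, ?_⟩ <;> rw [if_neg (by omega)]

theorem tor_one (q j : ℕ) : tor q j 1 = q ^ j - 1 := if_pos rfl

theorem tor_neg (q j : ℕ) : tor q j (-1) = q ^ j + 1 := if_neg (by decide)

theorem coprime_tor {q j : ℕ} (hq : 0 < q) (hj : 0 < j) (δ : ℤ) : (tor q j δ).Coprime q := by
  obtain ⟨i, rfl⟩ := Nat.exists_eq_add_one_of_ne_zero hj.ne'
  unfold tor
  split_ifs
  · have h1 : 1 ≤ q ^ (i + 1) := Nat.one_le_pow _ _ hq
    refine (Nat.coprime_of_mul_modEq_one (q ^ i) ?_).symm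
    rw [mul_comm, ← pow_succ]
    exact ((Nat.modEq_iff_dvd' h1).2 dvd_rfl).symm
  · simp [pow_succ]

namespace LS

variable {ω : Set ℕ} {ε : ℤ} {n q p : ℕ} (h : LS ω ε n q p)
include h

theorem q_pos : 0 < q := by
  obtain ⟨f, -, rfl⟩ := h.hq
  exact pow_pos h.hp.pos _

theorem p_dvd : p ∣ q := by
  obtain ⟨f, hf, rfl⟩ := h.hq
  exact dvd_pow_self _ hf.ne'

theorem not_dvd_tor {j : ℕ} (hj : 0 < j) (δ : ℤ) : ¬ p ∣ tor q j δ := fun e =>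
  h.hp.one_lt.ne' (Nat.eq_one_of_dvd_coprimes (coprime_tor h.q_pos hj δ) e h.p_dvd)

/-- `r` and the characteristic -/
theorem nrp {r : ℕ} (hr : r.Prime) (hp : r ≠ p) (h2 : r ≠ 2) (hω : r * p ∈ ω) :
    eta (eo q r) + (if ε = 0 then 1 else 2) ≤ n := by
  have h1 := (h.pi r (h.dvd _ _ (dvd_mul_right r p) hω) hr hp h2).1
  have h3 : eta (eo q r) ≠ n := fun e => h.not_dvd_tor (by have := h.rng; omega) _
    ((dvd_mul_left p r).trans (h.big0 _ hω r hr hp h2 (dvd_mul_right r p) e))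
  split_ifs with h0
  · omega
  have h4 : eta (eo q r) + 1 ≠ n := fun e => by
    have := (dvd_mul_left p r).trans (h.big1 h0 _ hω r hr hp h2 (dvd_mul_right r p) e)
    rcases h.hp.dvd_mul.1 (this.trans (Nat.lcm_dvd_mul _ _)) with e' | e'
    · exact h.not_dvd_tor (by have := h.rng; omega) _ e'
    · exact h.not_dvd_tor one_pos _ e'
  omega

end LS

end Cfsg.Lib.SPO
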