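import Cfsg.Agent.Lib.Spec.GK
import Cfsg.Agent.Lib.BG.T01_PLength
import Cfsg.Agent.Lib.BG.T01_Coprime
import Cfsg.Agent.Lib.BG.T01_Cyclic
import Cfsg.Agent.S3347
import Cfsg.Agent.S2807
import Cfsg.Agent.Lib.PGroup.Metacyclic

/-!
# S3535: a Sylow 3-subgroup of order 27 with an element of order 9
-/

set_option autoImplicit false

namespace Cfsg.Lib.SPO

open Subgroup Cfsg.Lib Cfsg.Lib.BG Cfsg.Lib.Spec Cfsg.Lib.Transfer

variable {S : Type*} [Group S] [Finite S] {P : Subgroup S} {y : S}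

theorem meta27 (c : Nat.card P = 27) (hy : y ∈ P) (o : orderOf y = 9) : IsMetacyclic P := by
  have k : (zpowers (⟨y, hy⟩ : P)).index = 3 := by
    have := (zpowers (⟨y, hy⟩ : P)).card_mul_index
    rw [Nat.card_zpowers, Subgroup.orderOf_mk, o, c] at this
    omega
  haveI : (zpowers (⟨y, hy⟩ : P)).Normal := normal_of_index_eq_minFac_card (by rw [k, c]; norm_num)
  haveI := Fact.mk Nat.prime_three
  exact ⟨zpowers ⟨y, hy⟩, inferInstance, inferInstance, isCyclic_of_prime_card k⟩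

theorem exists_nine (hP : Syl 3 P ⊤) (h9 : 9 ∈ sp S) : ∃ y ∈ P, orderOf y = 9 := by
  haveI := Fact.mk Nat.prime_three
  obtain ⟨x, hx⟩ := h9
  obtain ⟨g, -, hg⟩ := hP.exists_conj_le (Q := zpowers x) (IsPGroup.of_card (n := 2) (by rw [Nat.card_zpowers, hx]; rfl))
    le_top
  exact ⟨_, conj_le_iff.1 hg x (mem_zpowers x), by rw [← hx]; exact (MulAut.conj g).orderOf_eq x⟩

/-- Yoshida's theorem and coprime action on a metacyclic group -/
theorem f9_ab (hG : commutator S = ⊤) (Q : Sylow 3 S) (c : Nat.card Q = 27) (h9 : 9 ∈ sp S) :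
    IsMulCommutative (Q : Subgroup S) := by
  haveI := Fact.mk Nat.prime_three
  have hP := Syl.of_sylow_top Q
  obtain ⟨y, hy, o⟩ := exists_nine hP h9
  by_contra hab
  obtain ⟨W, f, hf⟩ := Agent.S2807.result Q fun e => by
    rw [hG, inf_top_eq] at e
    obtain ⟨A, hA, hA'⟩ := Hall.exists_compl (hP.of_le (le_norm _) le_top) le_rfl
    obtain ⟨h1, -, -, h2⟩ := PGroup.metacyclic_coprime_action (by norm_num) Q.2 (meta27 c hy o) hA.norm hA'.pi.coprime_p
    set R := (Q : Subgroup S)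
    have u1 : ⁅R, A⁆ ⊔ ⁅R, R⁆ ≤ R := sup_le (comm_le_left hA.norm) (der_le R)
    have u2 : A ≤ 𝐍(⁅R, A⁆ ⊔ ⁅R, R⁆) := norm_sup (right_norm_comm R A) (norm_der hA.norm)
    have u3 : ⁅R, ⁅R, A⁆ ⊔ ⁅R, R⁆ ⊔ A⁆ ≤ ⁅R, A⁆ ⊔ ⁅R, R⁆ := by
      rw [commutator_comm]
      exact Core.commutator_sup_le (le_norm _) u2 ((commutator_mono u1 le_rfl).trans le_sup_right)
        ((commutator_comm A R).le.trans le_sup_left)
    have u4 : R ≤ 𝐍(⁅R, A⁆ ⊔ ⁅R, R⁆ ⊔ A) := norm_of_comm_le ((commutator_comm _ R).le.trans (u3.trans le_sup_left))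
    have u5 : A ≤ 𝐍(⁅R, A⁆ ⊔ ⁅R, R⁆ ⊔ A) := le_norm_of_le le_sup_right
    have u6 : ⁅R ⊔ A, R ⊔ A⁆ ≤ ⁅R, A⁆ ⊔ ⁅R, R⁆ ⊔ A := Core.commutator_sup_le u4 u5
      ((commutator_comm _ _).le.trans (Core.commutator_sup_le u4 u5 (le_sup_right.trans le_sup_left)
        ((commutator_comm A R).le.trans (le_sup_left.trans le_sup_left))))
      ((commutator_comm _ _).le.trans (Core.commutator_sup_le u4 u5 (le_sup_left.trans le_sup_left)
        ((der_le A).trans le_sup_right)))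
    have u7 : R ≤ ⁅R, A⁆ ⊔ ⁅R, R⁆ := by
      have := le_inf ((e.le.trans inf_le_right).trans (hA.sup.symm ▸ u6)) (le_refl R)
      rwa [modular_left u1 u2, inf_comm, hA.inf, sup_bot_eq] at this
    by_cases h3 : A ≤ 𝐂(R)
    · rw [comm_eq_bot_iff'.2 h3, bot_sup_eq] at u7
      haveI := pgroup_sol hP.pgroup
      haveI : Nontrivial R := R.nontrivial_iff_ne_bot.2 fun e => hab (e ▸ abelian_bot)
      refine (IsSolvable.commutator_lt_top_of_nontrivial R).ne (map_injective R.subtype_injective ?_)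
      rw [map_subtype_commutator, ← MonoidHom.range_eq_map, range_subtype]
      exact le_antisymm (der_le R) u7
    · exact hab (abelian_of_le h1 (u7.trans (sup_le le_rfl (h2 hab h3).2.2.2.2)))
  have h1 := Nat.card_le_card_of_surjective f hf
  have h2 : 3 ^ 4 ∣ Nat.card W := W.pow_dvd_card_of_pow_dvd_card (by
    rw [Nat.card_perm, Nat.card_eq_fintype_card, Fintype.card_fin]; decide)
  have := Nat.le_of_dvd Nat.card_pos h2
  omega

/-- The abelian case without elements of order `9 q`: the automizer has order at most 2 (Smith-Tyrer). -/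
theorem f9_false [IsSimpleGroup S] (hG : commutator S = ⊤) (d : 27 ∣ Nat.card S) (d' : ¬ 81 ∣ Nat.card S) (h9 : 9 ∈ sp S)
    (h27 : 27 ∉ sp S) (hq : ∀ q, q.Prime → q ≠ 3 → 9 * q ∉ sp S) : False := by
  haveI := Fact.mk Nat.prime_three
  obtain ⟨Q⟩ : Nonempty (Sylow 3 S) := inferInstance
  have hP := Syl.of_sylow_top Q
  have c : Nat.card Q = 27 := by
    obtain ⟨k, hk⟩ := IsPGroup.iff_card.1 Q.2
    have h1 : 3 ^ 3 ∣ Nat.card Q := Q.pow_dvd_card_of_pow_dvd_card d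
    have h2 : ¬ 3 ^ 4 ∣ Nat.card Q := fun e => d' (e.trans (card_subgroup_dvd_card _))
    rw [hk, Nat.pow_dvd_pow_iff_le_right (by norm_num)] at h1 h2
    rw [hk, show k = 3 by omega]; rfl
  have ab := f9_ab hG Q c h9
  obtain ⟨y, hy, o⟩ := exists_nine hP h9
  set R := (Q : Subgroup S) with hR
  have nc : ¬ IsCyclic R := fun e => h27 (sp_subgroup R (mem_sp_of_isCyclic.2 (c ▸ dvd_rfl)))
  have o3 : orderOf (y ^ 3) = 3 := by rw [orderOf_pow' _ (by norm_num), o]; rfl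
  have cube : ∀ x ∈ R, x ^ 3 ∈ zpowers (y ^ 3) := fun x hx => by
    have k : (zpowers (⟨y, hy⟩ : R)).index = 3 := by
      have := (zpowers (⟨y, hy⟩ : R)).card_mul_index
      rw [Nat.card_zpowers, Subgroup.orderOf_mk, o, c] at this
      omega
    haveI : (zpowers (⟨y, hy⟩ : R)).Normal := normal_of_index_eq_minFac_card (by rw [k, c]; norm_num)
    obtain ⟨j, hj⟩ := mem_zpowers_iff.1 (k ▸ (zpowers (⟨y, hy⟩ : R)).pow_index_mem ⟨x, hx⟩)
    have h1 : y ^ j = x ^ 3 := congrArg Subtype.val hj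
    have h2 : orderOf x ∣ 3 ^ 3 := (Subgroup.orderOf_dvd_natCard R hx).trans c.dvd
    obtain ⟨i, h3, h4⟩ := (Nat.dvd_prime_pow Nat.prime_three).1 h2
    have h5 : x ^ 9 = 1 := orderOf_dvd_iff_pow_eq_one.1 (by
      have : i ≠ 3 := fun e => h27 ⟨x, by rw [h4, e]; rfl⟩
      rw [h4]; exact pow_dvd_pow 3 (by omega : i ≤ 2))
    have h6 : y ^ (j * 3) = 1 := by rw [zpow_mul, h1, zpow_ofNat, ← pow_mul, h5]
    rw [← orderOf_dvd_iff_zpow_eq_one, o] at h6
    obtain ⟨l, rfl⟩ : 3 ∣ j := by omega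
    exact ⟨l, by rw [← h1, zpow_mul]; simp [zpow_ofNat]⟩
  have n1 : 𝐍(R) ≤ 𝐍(zpowers (y ^ 3)) := fun g hg => mem_normalizer_of_conj_le (by
    rw [conj_zpowers, zpowers_le, ← conj_pow]; exact cube _ (conj_mem_of_norm hg hy))
  have n2 : 𝐍(R) ⊓ 𝐂[y ^ 3] ≤ R := by
    refine hP.ge_of_norm_p' le_top (IsPGroup.of_card (Nat.eq_prime_pow_of_unique_prime_dvd Nat.card_pos.ne'
      fun {q} hq' dq => ?_)) inf_le_left
    by_contra e
    obtain ⟨t, ht, ot⟩ := Core.exists_mem_orderOf_eq_prime hq' dq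
    have cp : (Nat.card (zpowers t)).Coprime (Nat.card R) := by
      rw [Nat.card_zpowers, ot, c]; exact ((Nat.coprime_primes hq' Nat.prime_three).2 e).pow_right 3
    have dp := coprime_abelian_cent_dprod (zpowers_le.2 ht.1) cp ab
    obtain ⟨a, ha, b, hb, rfl⟩ := (mem_sup_left_norm (norm_of_cent (cent_symm dp.cent))).1 (dp.sup.ge hy)
    have ha' := dp.left_le ha
    have cm : Commute a b := (mem_cent.1 (abelian_cent ab hb.1) a ha')
    have h1 : a ^ 3 = 1 := mem_bot.1 (dp.inf ▸ mem_inf.2 ⟨pow_mem ha 3, pow_mem ha' 3, by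
      rw [cent_zpowers]
      exact (zpowers_le.2 (mem_cent1_symm ht.2)) (cube a ha')⟩)
    have h2 : 9 ∣ orderOf b := by
      have h3 : orderOf (b ^ 3) = 3 := by rwa [cm.mul_pow, h1, one_mul] at o3
      have h4 : orderOf b ∣ 3 ^ 3 := (Subgroup.orderOf_dvd_natCard R hb.1).trans c.dvd
      obtain ⟨i, -, h5⟩ := (Nat.dvd_prime_pow Nat.prime_three).1 h4
      rw [orderOf_pow' _ (by norm_num), h5] at h3
      rw [h5]
      refine pow_dvd_pow 3 (?_ : 2 ≤ i)
      by_contra h6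
      rcases (by omega : i = 0 ∨ i = 1) with rfl | rfl <;> simp at h3
    have h3 := mul_mem_sp_of_commute (x := b) (y := t) (mem_cent.1 hb.2 t (mem_zpowers t)).symm
      ((Nat.card_zpowers t ▸ cp).symm.coprime_dvd_left (Subgroup.orderOf_dvd_natCard R hb.1))
    exact hq q hq' e (mem_sp_of_dvd h3 (ot ▸ Nat.mul_dvd_mul_right h2 _))
  have n3 : 𝐂(R).relIndex 𝐍(R) ∣ 2 := by
    refine (relIndex_dvd_left (n2.trans (abelian_cent ab)) _).trans ?_
    rw [inf_relIndex_left, ← cent_zpowers]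
    exact index_cent_prime_dvd (p := 3) (by rw [Nat.card_zpowers, o3]) n1
  have n4 : 𝐎({3}ᶜ, (⊤ : Subgroup S)) = ⊥ := by
    rcases (Nml.top_iff.1 (pcore_nml {3}ᶜ (⊤ : Subgroup S))).eq_bot_or_eq_top with e | e
    · exact e
    · exact absurd (e ▸ card_top (G := S) ▸ (by decide : 3 ∣ 27).trans d) (PiGrp.p'_iff.1 (pcore_pi {3}ᶜ ⊤))
  have n5 : ¬ R.Normal := fun e => by
    rcases e.eq_bot_or_eq_top with e | e
    · rw [e, card_bot] at c; omega
    · have := abelian_iff_der.1 ab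
      rw [e, ← _root_.commutator_def, hG] at this
      exact bot_ne_top this.symm
  rcases (Nat.dvd_prime Nat.prime_two).1 n3 with e | e
  · have := (Burnside_normal_complement hP (inf_le_right.trans (relIndex_eq_one.1 e))).sup
    rw [n4, bot_sup_eq] at this
    exact n5 (this ▸ normal_top)
  rcases Agent.S3347.result 3 (by norm_num) Q ab nc e with k | k
  · rcases (pResidual_normal (p := 3) (G := S)).eq_bot_or_eq_top with e | e
    · exact n5 ((hP.eq_of_le_pgroup le_top le_rfl ((pResidual_eq_bot_iff.1 e).to_subgroup ⊤)).symm ▸ normal_top)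
    · exact k e
  · have := (plength1_iff hP).1 (Core.pLengthLE_top_iff.2 k)
    rw [n4, bot_sup_eq] at this
    exact n5 (Nml.top_iff.1 this)

end Cfsg.Lib.SPO
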