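import Cfsg.Agent.Lib.GLC.SpAdj
import Cfsg.Agent.Lib.Orth.SpecBC

/-!
# S3535, L-side: tools for the element orders of `Sp_{2n}(q)`
-/

set_option autoImplicit false

namespace Cfsg.Lib.SPO

open Module Polynomial Matrix Cfsg.Lib.GLC Cfsg.Lib.GLC.Homocyc

variable {F : Type*} [Field F] [Finite F] {n j k : ℕ}

theorem orderOf_mod_add_one_sp {q : ℕ} (hq : 1 < q) (hj : j ≠ 0) : orderOf (q : ZMod (q ^ j + 1)) = 2 * j := by
  have h1 := orderOf_dvd_two_mul (r := q ^ j + 1) (j := j) (by omega : 0 < q) (.inl rfl) dvd_rfl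
  obtain ⟨c, hc⟩ := h1
  have h0 : orderOf (q : ZMod (q ^ j + 1)) ≠ 0 := fun e => by rw [e] at hc; omega
  have h2 := (GLC.dvd_pow_sub_one_iff (r := q ^ j + 1) (by omega : 0 < q)).2 (dvd_refl (orderOf (q : ZMod (q ^ j + 1))))
  have h3 := Nat.one_lt_pow h0 hq
  have h4 := Nat.le_of_dvd (by omega) h2
  have h5 : j < orderOf (q : ZMod (q ^ j + 1)) := (Nat.pow_lt_pow_iff_right hq).1 (by omega)
  rcases c with _ | _ | c
  · omega
  · omega
  · nlinarith

theorem exists_sp_plus (hj : j ≠ 0) : ∃ x : symplecticGroup (Fin j) F, Nat.card F ^ j + 1 ∣ orderOf x :=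
  exists_sp_order_even hj dvd_rfl (orderOf_mod_add_one_sp Finite.one_lt_card hj)

theorem exists_sp_minus (hj : j ≠ 0) : ∃ x : symplecticGroup (Fin j) F, Nat.card F ^ j - 1 ∣ orderOf x :=
  exists_sp_order_odd hj dvd_rfl

variable (p : ℕ) [hp : Fact p.Prime] [CharP F p]

theorem exists_block_of_pow_dvd_sp {V : Type*} [AddCommGroup V] [Module F V] [Module.Finite F V] {f : End F V} (hf : IsUnit f)
    {r a : ℕ} (hr : r.Prime) (hrp : r ≠ p) (ha : a ≠ 0) (h : r ^ a ∣ orderOf f) :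
    ∃ φ e, φ.Monic ∧ Irreducible φ ∧ 0 < e ∧ φ ^ e ∈ typ f ∧ r ^ a ∣ orderOf (AdjoinRoot.root φ) := by
  by_contra! hc
  have := Fact.mk hr
  have h0 := (blocks_typ f).isUnit_iff.1 hf
  let N := Nat.card F ^ (finrank F V).factorial - 1
  have hN : N ≠ 0 := by
    have := Nat.one_lt_pow (finrank F V).factorial_ne_zero (Finite.one_lt_card (α := F))
    omega
  have key : f ^ (r ^ (a - 1) * ordCompl[r] N * p ^ finrank F V) = (1 : F) ^ p ^ finrank F V • 1 :=
    pow_eq_smul_one_of_typ p fun φ e h1 h2 he hm => by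
      have h3 := mul_natDegree_le (blocks_typ f) hm
      have h4 := h2.natDegree_pos
      have h5 : orderOf (AdjoinRoot.root φ) ∣ N := dvd_X_pow_sub_one_iff.1 (dvd_X_pow_card_sub_one h2
        (Unitary.coeff_zero_ne_of_dvd (dvd_pow_self φ he.ne') (h0 _ hm))
        (Nat.dvd_factorial h4 (by nlinarith)))
      refine ⟨?_, (show e ≤ finrank F V by nlinarith).trans (Nat.lt_pow_self hp.out.one_lt).le⟩
      rw [C_1, dvd_X_pow_sub_one_iff, ← Nat.ordProj_mul_ordCompl_eq_self (orderOf (AdjoinRoot.root φ)) r]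
      refine mul_dvd_mul (pow_dvd_pow r ?_) (Nat.ordCompl_dvd_ordCompl_of_dvd h5 r)
      by_contra l
      exact hc φ e h1 h2 he hm ((pow_dvd_pow r (by omega)).trans (Nat.ordProj_dvd _ r))
  rw [one_pow, one_smul] at key
  have h6 := h.trans (orderOf_dvd_of_pow_eq_one key)
  obtain ⟨b, rfl⟩ := Nat.exists_eq_succ_of_ne_zero ha
  rw [Nat.succ_sub_one, pow_succ, mul_assoc, Nat.mul_dvd_mul_iff_left (pow_pos hr.pos b), hr.dvd_mul] at h6
  exact h6.elim (Nat.not_dvd_ordCompl hr hN) fun e => hrp ((Nat.prime_dvd_prime_iff_eq hr hp.out).1 (hr.dvd_of_dvd_pow e))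

end Cfsg.Lib.SPO
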